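import Groth.Agent.SGA5VII.K558.BridgeEt

/-!
# The base change maps after an exact functor

`isIso_map_bc_of_isIso_map_bcD`: let `P` be an exact functor on the target category. If `P` maps the derived
base change transformation at `F[0]` to an isomorphism then it maps all the base change maps
`L₂ (R^q Ψ F) ⟶ R^q Φ₂ (L F)` to isomorphisms. Etale form: `isIso_pull_map_bcQ`.
-/

set_option autoImplicit false
set_option backward.isDefEq.respectTransparency false
set_option linter.unusedSectionVars false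
universe w₁ w₂ w₃ w₄ w₅ v₁ v₂ v₃ v₄ v₅ u₁ u₂ u₃ u₄ u₅

open CategoryTheory CategoryTheory.Limits HomologicalComplex

noncomputable section

namespace K115.Bridge

open RDer K557.RDerRes K557.BcAbs Groth.Agent.Etrest.RDer1 Groth.Agent.Etrest.RDer3
  Groth.Agent.Etrest.RDer4 K558 K558.Bridge

section exact

variable {B : Type u₁} [Category.{v₁} B] [Abelian B] {C : Type u₂} [Category.{v₂} C] [Abelian C]
  (P : B ⥤ C) [P.Additive] [PreservesFiniteLimits P] [PreservesFiniteColimits P]

/-- An exact functor maps the map on homology to an isomorphism iff the map of complexes becomes a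
quasi-isomorphism in that degree. -/
theorem isIso_map_homologyMap_iff {ι' : Type*} {c : ComplexShape ι'} {K M : HomologicalComplex B c}
    (φ : K ⟶ M) (i : ι') :
    IsIso (P.map (homologyMap φ i)) ↔ IsIso (homologyMap ((P.mapHomologicalComplex c).map φ) i) := by
  have h1 := HCmp.isIso_homologyComparison P K i
  have h2 := HCmp.isIso_homologyComparison P M i
  have h3 : homologyComparison P K i ≫ P.map (homologyMap φ i) =
      homologyMap ((P.mapHomologicalComplex c).map φ) i ≫ homologyComparison P M i := by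
    rw [← cancel_epi (((P.mapHomologicalComplex c).obj K).homologyπ i),
      homologyπ_homologyComparison_assoc, ← P.map_comp, homologyπ_naturality, P.map_comp,
      homologyπ_naturality_assoc, homologyπ_homologyComparison, ← Category.assoc, ← Category.assoc]
    congr 1
    rw [← cancel_mono (P.map (M.iCycles i)), Category.assoc, Category.assoc, cyclesComparison_i,
      ← P.map_comp, cyclesMap_i, P.map_comp, cyclesComparison_i_assoc, cyclesMap_i]
    rfl
  rw [← isIso_comp_left_iff (homologyComparison P K i), h3, isIso_comp_right_iff]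

end exact

section nat

variable {A : Type u₁} [Category.{v₁} A] [Abelian A] [HasInjectiveResolutions A]
  {A' : Type u₂} [Category.{v₂} A'] [Abelian A'] [HasInjectiveResolutions A']
  {B : Type u₃} [Category.{v₃} B] [Abelian B]
  {B' : Type u₄} [Category.{v₄} B'] [Abelian B']
  {Φ : A' ⥤ A} [Φ.Additive] [Φ.PreservesInjectiveObjects] {Ψ : A ⥤ B} [Ψ.Additive]
  {Φ₂ : A' ⥤ B'} [Φ₂.Additive] {Ψ₂ : B' ⥤ B} [Ψ₂.Additive] [PreservesFiniteLimits Ψ₂]
  (e : Φ ⋙ Ψ ≅ Φ₂ ⋙ Ψ₂)
  {L : A ⥤ A'} {L₂ : B ⥤ B'} (adj : L ⊣ Φ) (adj₂ : L₂ ⊣ Ψ₂) [L.Additive]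
  [L₂.Additive] [PreservesFiniteLimits L₂] [PreservesFiniteColimits L₂]

/-- The base change map is computed by `theta` up to isomorphisms. -/
theorem exists_bc_eq (β : Ψ ⋙ L₂ ⟶ L ⋙ Φ₂)
    (hβ : ∀ M, β.app M = (adj₂.homEquiv _ _).symm (Ψ.map (adj.unit.app M) ≫ e.hom.app (L.obj M)))
    (q : ℕ) (F : A) (I : InjectiveResolution F) (J : InjectiveResolution (L.obj F))
    (v : (L.mapHomologicalComplex (.up ℕ)).obj I.cocomplex ⟶ J.cocomplex)
    (hv : L.map (I.ι.f 0) ≫ v.f 0 = J.ι.f 0) :
    ∃ (a : L₂.obj ((Ψ.rightDerived q).obj F) ≅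
        ((L₂.mapHomologicalComplex (.up ℕ)).obj
          ((Ψ.mapHomologicalComplex (.up ℕ)).obj I.cocomplex)).homology q)
      (b : ((Φ₂.mapHomologicalComplex (.up ℕ)).obj J.cocomplex).homology q ≅
        (Φ₂.rightDerived q).obj (L.obj F)),
      bc e adj adj₂ q F = a.hom ≫ homologyMap (theta β v) q ≫ b.hom := by
  let u : I.cocomplex ⟶ (Φ.mapHomologicalComplex (.up ℕ)).obj J.cocomplex :=
    { f := fun n => adj.unit.app (I.cocomplex.X n) ≫ Φ.map (v.f n)
      comm' := fun i j _ => by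
        have h1 : I.cocomplex.d i j ≫ adj.unit.app (I.cocomplex.X j) =
            adj.unit.app (I.cocomplex.X i) ≫ Φ.map (L.map (I.cocomplex.d i j)) :=
          adj.unit.naturality (I.cocomplex.d i j)
        have h2 : v.f i ≫ J.cocomplex.d i j = L.map (I.cocomplex.d i j) ≫ v.f j := v.comm i j
        change (adj.unit.app (I.cocomplex.X i) ≫ Φ.map (v.f i)) ≫ Φ.map (J.cocomplex.d i j) =
          I.cocomplex.d i j ≫ adj.unit.app (I.cocomplex.X j) ≫ Φ.map (v.f j)
        rw [Category.assoc, ← Φ.map_comp, h2, Φ.map_comp, reassoc_of% h1] }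
  have hu : I.ι.f 0 ≫ u.f 0 = adj.unit.app F ≫ Φ.map (J.ι.f 0) := by
    have h1 : I.ι.f 0 ≫ adj.unit.app (I.cocomplex.X 0) = adj.unit.app F ≫ Φ.map (L.map (I.ι.f 0)) :=
      adj.unit.naturality (I.ι.f 0)
    rw [← hv, Φ.map_comp, ← reassoc_of% h1]
  have h1 := adjMap_eq e (adj.unit.app F) q I J u hu
  let χ := (Ψ.mapHomologicalComplex (.up ℕ)).map u ≫ ecx e J.cocomplex
  have h2 : adjMap e (adj.unit.app F) q = (iso Ψ I q).hom ≫
      (homologyMap χ q ≫ homologyComparison Ψ₂ ((Φ₂.mapHomologicalComplex (.up ℕ)).obj J.cocomplex) q) ≫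
        Ψ₂.map (iso Φ₂ J q).inv := by
    rw [h1, tail, homologyMap_comp]
    simp only [Category.assoc]
  have h3 : bc e adj adj₂ q F = L₂.map (iso Ψ I q).hom ≫ (adj₂.homEquiv _ _).symm (homologyMap χ q ≫
      homologyComparison Ψ₂ ((Φ₂.mapHomologicalComplex (.up ℕ)).obj J.cocomplex) q) ≫ (iso Φ₂ J q).inv := by
    rw [bc, h2, Adjunction.homEquiv_naturality_left_symm, Adjunction.homEquiv_naturality_right_symm]
  have h4 := HCmp.homology_transpose adj₂ χ (theta β v) q (transpose_aux e adj adj₂ (v.f q) _ (hβ _))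
  have h5 := HCmp.isIso_homologyComparison L₂ ((Ψ.mapHomologicalComplex (.up ℕ)).obj I.cocomplex) q
  refine ⟨L₂.mapIso (iso Ψ I q) ≪≫ (asIso (homologyComparison L₂
    ((Ψ.mapHomologicalComplex (.up ℕ)).obj I.cocomplex) q)).symm, (iso Φ₂ J q).symm, ?_⟩
  rw [h3, ← h4]
  simp

variable {C : Type u₅} [Category.{v₅} C] [Abelian C] (P : B' ⥤ C) [P.Additive]
  [PreservesFiniteLimits P] [PreservesFiniteColimits P]

theorem isIso_map_bc_iff (β : Ψ ⋙ L₂ ⟶ L ⋙ Φ₂)
    (hβ : ∀ M, β.app M = (adj₂.homEquiv _ _).symm (Ψ.map (adj.unit.app M) ≫ e.hom.app (L.obj M)))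
    (q : ℕ) (F : A) (I : InjectiveResolution F) (J : InjectiveResolution (L.obj F))
    (v : (L.mapHomologicalComplex (.up ℕ)).obj I.cocomplex ⟶ J.cocomplex)
    (hv : L.map (I.ι.f 0) ≫ v.f 0 = J.ι.f 0) :
    IsIso (P.map (bc e adj adj₂ q F)) ↔
      IsIso (homologyMap ((P.mapHomologicalComplex (.up ℕ)).map (theta β v)) q) := by
  obtain ⟨a, b, h⟩ := exists_bc_eq e adj adj₂ β hβ q F I J v hv
  rw [h, P.map_comp, P.map_comp, isIso_comp_left_iff, isIso_comp_right_iff,
    isIso_map_homologyMap_iff]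

end nat

section int

variable {A : Type u₁} [Category.{v₁} A] [Abelian A]
  {A' : Type u₂} [Category.{v₂} A'] [Abelian A']
  {B : Type u₃} [Category.{v₃} B] [Abelian B]
  {B' : Type u₄} [Category.{v₄} B'] [Abelian B']
  {Ψ : A ⥤ B} [Ψ.Additive]
  {Φ₂ : A' ⥤ B'} [Φ₂.Additive]
  {L : A ⥤ A'} {L₂ : B ⥤ B'} [L.Additive]
  [L₂.Additive] (β : Ψ ⋙ L₂ ⟶ L ⋙ Φ₂) {I : CochainComplex A ℕ} {J : CochainComplex A' ℕ}
    (v : (L.mapHomologicalComplex (.up ℕ)).obj I ⟶ J)
  {C : Type u₅} [Category.{v₅} C] [Abelian C] (P : B' ⥤ C) [P.Additive]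

theorem quasiIso_map_theta_iff : QuasiIso ((P.mapHomologicalComplex (.up ℤ)).map (thetaZ β (vExt v))) ↔
    QuasiIso ((P.mapHomologicalComplex (.up ℕ)).map (theta β v)) := by
  rw [← quasiIso_extendMap_iff ((P.mapHomologicalComplex (.up ℕ)).map (theta β v))
    ComplexShape.embeddingUpNat]
  have h := congrArg (P.mapHomologicalComplex (.up ℤ)).map (thetaZ_comm β v)
  rw [Functor.map_comp, Functor.map_comp] at h
  have h' := mapExtendIso_naturality ComplexShape.embeddingUpNat P (theta β v)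
  have e1 : QuasiIso ((P.mapHomologicalComplex (.up ℤ)).map (thetaZ β (vExt v))) ↔
      QuasiIso ((P.mapHomologicalComplex (.up ℤ)).map
        (extendMap (theta β v) ComplexShape.embeddingUpNat)) := by
    rw [← quasiIso_iff_comp_right ((P.mapHomologicalComplex (.up ℤ)).map (thetaZ β (vExt v)))
      ((P.mapHomologicalComplex (.up ℤ)).map (mapExtendIso ComplexShape.embeddingUpNat Φ₂ J).hom), h,
      quasiIso_iff_comp_left]
  have e2 : QuasiIso ((P.mapHomologicalComplex (.up ℤ)).map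
        (extendMap (theta β v) ComplexShape.embeddingUpNat)) ↔
      QuasiIso (extendMap ((P.mapHomologicalComplex (.up ℕ)).map (theta β v))
        ComplexShape.embeddingUpNat) := by
    rw [← quasiIso_iff_comp_right _ (mapExtendIso ComplexShape.embeddingUpNat P _).hom, h',
      quasiIso_iff_comp_left]
  exact e1.trans e2

end int

section derived

variable {A : Type u₁} [Category.{v₁} A] [Abelian A] [HasDerivedCategory.{w₁} A] [HasKInj A]
  {B : Type u₂} [Category.{v₂} B] [Abelian B] [HasDerivedCategory.{w₂} B]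
  {A₂ : Type u₃} [Category.{v₃} A₂] [Abelian A₂] [HasDerivedCategory.{w₃} A₂] [HasKInj A₂]
  {B₂ : Type u₄} [Category.{v₄} B₂] [Abelian B₂] [HasDerivedCategory.{w₄} B₂]
  {G : A ⥤ B} [G.Additive] {G₂ : A₂ ⥤ B₂} [G₂.Additive]
  {E : A ⥤ A₂} [E.Additive] [PreservesFiniteLimits E] [PreservesFiniteColimits E]
  {E' : B ⥤ B₂} [E'.Additive] [PreservesFiniteLimits E'] [PreservesFiniteColimits E']
  (β : G ⋙ E' ⟶ E ⋙ G₂)
  {C : Type u₅} [Category.{v₅} C] [Abelian C] [HasDerivedCategory.{w₅} C] (P : B₂ ⥤ C) [P.Additive]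
  [PreservesFiniteLimits P] [PreservesFiniteColimits P]

theorem quasiIso_map_thetaZ {I' : CochainComplex A ℤ} {J' : CochainComplex A₂ ℤ}
    (v' : (E.mapHomologicalComplex (.up ℤ)).obj I' ⟶ J') [QuasiIso v'] (hI : I'.IsKInjective)
    (hJ : J'.IsKInjective)
    (h : IsIso (P.mapDerivedCategory.map ((bcD β).app (DerivedCategory.Q.obj I')))) :
    QuasiIso ((P.mapHomologicalComplex (.up ℤ)).map (thetaZ β v')) := by
  have h1 := isIso_unitQ_of_isKInjective G I' hI
  have h2 := isIso_unitQ_of_isKInjective G₂ J' hJ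
  have h3 := bcD_fac β I'
  have h4 : DerivedCategory.Q.map ((G₂.mapHomologicalComplex (.up ℤ)).map v') ≫ (unitQ G₂).app J' =
      (unitQ G₂).app ((E.mapHomologicalComplex (.up ℤ)).obj I') ≫
        (TR G₂).map (DerivedCategory.Q.map v') := (unitQ G₂).naturality v'
  have h5 : (E'.mapDerivedCategory.map ((unitQ G).app I') ≫ (bcD β).app (DerivedCategory.Q.obj I')) ≫
      (TR G₂).map (E.mapDerivedCategoryFactors.hom.app I') ≫
        (TR G₂).map (DerivedCategory.Q.map v') =
      E'.mapDerivedCategoryFactors.hom.app ((G.mapHomologicalComplex (.up ℤ)).obj I') ≫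
        DerivedCategory.Q.map (thetaZ β v') ≫ (unitQ G₂).app J' := by
    have h4' : (TR G₂).map (E.mapDerivedCategoryFactors.inv.app I') ≫
        (TR G₂).map (E.mapDerivedCategoryFactors.hom.app I') = 𝟙 _ := by
      rw [← (TR G₂).map_comp, Iso.inv_hom_id_app, (TR G₂).map_id]
    rw [h3, thetaZ, DerivedCategory.Q.map_comp]
    simp only [Category.assoc]
    rw [h4, reassoc_of% h4']
  have h6 : IsIso (E'.mapDerivedCategory.map ((unitQ G).app I')) := inferInstance
  have h7 : IsIso ((TR G₂).map (DerivedCategory.Q.map v')) := inferInstance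
  have h8 : IsIso (P.mapDerivedCategory.map
      (E'.mapDerivedCategoryFactors.hom.app ((G.mapHomologicalComplex (.up ℤ)).obj I') ≫
        DerivedCategory.Q.map (thetaZ β v') ≫ (unitQ G₂).app J')) := by
    rw [← h5, Functor.map_comp, Functor.map_comp]
    infer_instance
  have h9 : IsIso (P.mapDerivedCategory.map (DerivedCategory.Q.map (thetaZ β v'))) := by
    rw [Functor.map_comp, Functor.map_comp] at h8
    have h9 := IsIso.of_isIso_comp_left (P.mapDerivedCategory.map
      (E'.mapDerivedCategoryFactors.hom.app ((G.mapHomologicalComplex (.up ℤ)).obj I'))) 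
      (P.mapDerivedCategory.map (DerivedCategory.Q.map (thetaZ β v')) ≫
        P.mapDerivedCategory.map ((unitQ G₂).app J'))
    exact IsIso.of_isIso_comp_right _ (P.mapDerivedCategory.map ((unitQ G₂).app J'))
  have h10 := P.mapDerivedCategoryFactors.hom.naturality (thetaZ β v')
  have h11 : IsIso (DerivedCategory.Q.map ((P.mapHomologicalComplex (.up ℤ)).map (thetaZ β v'))) := by
    have h12 : IsIso (P.mapDerivedCategoryFactors.hom.app _ ≫
        DerivedCategory.Q.map ((P.mapHomologicalComplex (.up ℤ)).map (thetaZ β v'))) := by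
      refine h10 ▸ ?_
      have : IsIso ((DerivedCategory.Q ⋙ P.mapDerivedCategory).map (thetaZ β v')) := h9
      infer_instance
    exact IsIso.of_isIso_comp_left (P.mapDerivedCategoryFactors.hom.app _) _
  exact (DerivedCategory.isIso_Q_map_iff_quasiIso _ _).1 h11

end derived

section main

variable {A : Type u₁} [Category.{v₁} A] [Abelian A] [HasDerivedCategory.{w₁} A] [HasKInj A]
  [EnoughInjectives A]
  {B : Type u₂} [Category.{v₂} B] [Abelian B] [HasDerivedCategory.{w₂} B]
  {A' : Type u₃} [Category.{v₃} A'] [Abelian A'] [HasDerivedCategory.{w₃} A'] [HasKInj A']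
  [EnoughInjectives A']
  {B' : Type u₄} [Category.{v₄} B'] [Abelian B'] [HasDerivedCategory.{w₄} B']
  {Φ : A' ⥤ A} [Φ.Additive] [Φ.PreservesInjectiveObjects] {Ψ : A ⥤ B} [Ψ.Additive]
  {Φ₂ : A' ⥤ B'} [Φ₂.Additive] {Ψ₂ : B' ⥤ B} [Ψ₂.Additive] [PreservesFiniteLimits Ψ₂]
  (e : Φ ⋙ Ψ ≅ Φ₂ ⋙ Ψ₂)
  {L : A ⥤ A'} {L₂ : B ⥤ B'} (adj : L ⊣ Φ) (adj₂ : L₂ ⊣ Ψ₂)
  [L.Additive] [PreservesFiniteLimits L] [PreservesFiniteColimits L]
  [L₂.Additive] [PreservesFiniteLimits L₂] [PreservesFiniteColimits L₂]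
  {C : Type u₅} [Category.{v₅} C] [Abelian C] [HasDerivedCategory.{w₅} C] (P : B' ⥤ C) [P.Additive]
  [PreservesFiniteLimits P] [PreservesFiniteColimits P]

/-- The derived base change transformation controls the base change maps, after an exact functor. -/
theorem isIso_map_bc_of_isIso_map_bcD (β : Ψ ⋙ L₂ ⟶ L ⋙ Φ₂)
    (hβ : ∀ M, β.app M = (adj₂.homEquiv _ _).symm (Ψ.map (adj.unit.app M) ≫ e.hom.app (L.obj M)))
    (F : A)
    (h : IsIso (P.mapDerivedCategory.map ((bcD β).app ((DerivedCategory.singleFunctor A 0).obj F))))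
    (q : ℕ) : IsIso (P.map (bc e adj adj₂ q F)) := by
  let I := injectiveResolution F
  let J := injectiveResolution (L.obj F)
  have hq : QuasiIso (mapAug L I.ι) := inferInstance
  obtain ⟨v, hv⟩ := exists_lift (𝟙 (L.obj F)) (mapAug L I.ι) J.ι
  have hv' : L.map (I.ι.f 0) ≫ v.f 0 = J.ι.f 0 := by
    rw [← mapAug_f_zero, hv, Category.id_comp]
  have hcomp : mapAug L I.ι ≫ v = J.ι := by
    refine HomologicalComplex.from_single_hom_ext ?_
    rw [HomologicalComplex.comp_f, hv, Category.id_comp]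
  have hvq : QuasiIso v := by
    have h1 : QuasiIso (mapAug L I.ι ≫ v) := by rw [hcomp]; infer_instance
    exact quasiIso_of_comp_left (mapAug L I.ι) v
  have hvq' : QuasiIso (vExt v) := by
    have h1 : QuasiIso (extendMap v ComplexShape.embeddingUpNat) := by
      rw [quasiIso_extendMap_iff]
      exact hvq
    unfold vExt
    infer_instance
  have hK : IsIso (P.mapDerivedCategory.map ((bcD β).app (DerivedCategory.Q.obj I.cochainComplex))) := by
    let i := (DerivedCategory.singleFunctorIsoCompQ A 0).app F ≪≫ asIso (DerivedCategory.Q.map I.ι')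
    have h1 := congrArg P.mapDerivedCategory.map ((bcD β).naturality i.hom)
    rw [Functor.map_comp, Functor.map_comp] at h1
    have h2 : IsIso (P.mapDerivedCategory.map ((TR Ψ ⋙ L₂.mapDerivedCategory).map i.hom) ≫
        P.mapDerivedCategory.map ((bcD β).app (DerivedCategory.Q.obj I.cochainComplex))) := by
      refine h1.symm ▸ ?_
      infer_instance
    exact IsIso.of_isIso_comp_left (P.mapDerivedCategory.map
      ((TR Ψ ⋙ L₂.mapDerivedCategory).map i.hom)) _
  have h1 := quasiIso_map_thetaZ β P (I' := I.cochainComplex) (J' := J.cochainComplex) (vExt v)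
    inferInstance inferInstance hK
  have h2 := (quasiIso_map_theta_iff β v P).1 h1
  rw [isIso_map_bc_iff e adj adj₂ P β hβ q F I J v hv']
  exact (quasiIsoAt_iff_isIso_homologyMap _ q).1 (h2.quasiIsoAt q)

end main

end K115.Bridge

namespace K115.BridgeEt

universe u

open CategoryTheory CategoryTheory.Limits AlgebraicGeometry

attribute [local instance] HasDerivedCategory.standard

open K557.BcQ Groth.Agent Groth.Agent.Sga4h.GSq Groth.Agent.Etrest.DEtPush
open scoped Groth.Agent.Sga4B.EtAbInst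

variable {X S X' S' Z : Scheme.{u}} {f : X ⟶ S} {g : S' ⟶ S} {f' : X' ⟶ S'} {g' : X' ⟶ X}

theorem isIso_pull_map_bq (w : g' ≫ f = f' ≫ g) (i : Z ⟶ S') (F : EtCoh.Ab X)
    (h : IsIso ((pullD i).map ((bcEt w).app ((DerivedCategory.singleFunctor _ 0).obj F)))) (q : ℕ) :
    IsIso ((EtCoh.pull i).map (bq w q F)) :=
  Bridge.isIso_map_bc_of_isIso_map_bcD (sqIso w) (EtCoh.pullPushAdj g') (EtCoh.pullPushAdj g)
    (EtCoh.pull i) (EtpbcB.BCCalc.bcNat w) (fun _ => rfl) F h q

/-- Base change in the derived sense after `i^*` gives isomorphisms `i^* bcQ`. -/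
theorem isIso_pull_map_bcQ (w : g' ≫ f = f' ≫ g) [PreservesFiniteLimits (EtCoh.pull g')] (i : Z ⟶ S')
    (F : EtCoh.Ab X)
    (h : IsIso ((pullD i).map ((bcEt w).app ((DerivedCategory.singleFunctor _ 0).obj F)))) (q : ℕ) :
    IsIso ((EtCoh.pull i).map (EtBC.bcQ f g f' g' w q F)) := by
  rw [bcQ_eq]
  exact isIso_pull_map_bq w i F h q

end K115.BridgeEt
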